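import Cfsg.Agent.Solv.Cores
import Cfsg.Agent.Solv.Nilpotent
import Cfsg.Agent.TwoFus.Basic
import Cfsg.Prelude.Def_LocalStructure
import Cfsg.Prelude.Def_Amalgam

set_option autoImplicit false

/-! Large subgroups. -/

namespace Cfsg.Agent.Even.Large

open Cfsg
open scoped commutatorElement Pointwise

variable {H : Type*} [Group H]

/-- Conjugate of a subgroup. -/
abbrev cnj (Q : Subgroup H) (g : H) : Subgroup H := Q.map (MulAut.conj g).toMonoidHom

theorem cnj_mem {Q : Subgroup H} {g x : H} (hx : x ∈ Q) : g * x * g⁻¹ ∈ cnj Q g := ⟨x, hx, rfl⟩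

theorem mem_cnj {Q : Subgroup H} {g y : H} : y ∈ cnj Q g ↔ g⁻¹ * y * g ∈ Q := by
  constructor
  · rintro ⟨x, hx, rfl⟩; simpa [mul_assoc] using hx
  · intro h; exact ⟨_, h, by simp [mul_assoc]⟩

theorem mem_centralizer_cnj {Q : Subgroup H} {g y : H} :
    y ∈ Subgroup.centralizer (cnj Q g : Set H) ↔ g⁻¹ * y * g ∈ Subgroup.centralizer (Q : Set H) := by
  rw [Subgroup.mem_centralizer_iff, Subgroup.mem_centralizer_iff]
  constructor
  · intro h x hx
    have e := h _ (cnj_mem hx)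
    calc x * (g⁻¹ * y * g) = g⁻¹ * (g * x * g⁻¹ * y) * g := by group
      _ = g⁻¹ * (y * (g * x * g⁻¹)) * g := by rw [e]
      _ = _ := by group
  · intro h z hz
    have e := h _ (mem_cnj.1 hz)
    calc z * y = g * (g⁻¹ * z * g * (g⁻¹ * y * g)) * g⁻¹ := by group
      _ = g * (g⁻¹ * y * g * (g⁻¹ * z * g)) * g⁻¹ := by rw [e]
      _ = _ := by group

theorem mem_normalizer_cnj {Q : Subgroup H} {g y : H} :
    y ∈ Subgroup.normalizer (cnj Q g : Set H) ↔ g⁻¹ * y * g ∈ Subgroup.normalizer (Q : Set H) := by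
  rw [Subgroup.mem_normalizer_iff, Subgroup.mem_normalizer_iff]
  constructor
  · intro h x
    have := h (g * x * g⁻¹)
    simp only [mem_cnj] at this
    simpa [mul_assoc] using this
  · intro h x
    have := h (g⁻¹ * x * g)
    simp only [mem_cnj]
    simpa [mul_assoc] using this

theorem isLarge_cnj {Q : Subgroup H} (hL : IsLarge Q) (g : H) : IsLarge (cnj Q g) := by
  refine ⟨fun y hy => mem_cnj.2 (hL.1 (mem_centralizer_cnj.1 hy)), fun U hU hU1 y hy => mem_normalizer_cnj.2 ?_⟩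
  refine hL.2 (cnj U g⁻¹) ?_ ?_ (mem_normalizer_cnj.2 (by simpa [mul_assoc] using hy))
  · rintro _ ⟨u, hu, rfl⟩
    simpa using mem_centralizer_cnj.1 (hU hu)
  · rw [Ne, Subgroup.map_eq_bot_iff_of_injective _ (MulAut.conj g⁻¹).injective]; exact hU1

theorem isPGroup_cnj {p : ℕ} {Q : Subgroup H} (hQ : IsPGroup p Q) (g : H) : IsPGroup p (cnj Q g) := hQ.map _

variable [Finite H] {p : ℕ} [Fact p.Prime] {Q : Subgroup H}

theorem isPGroup_sup {A B : Subgroup H} (hA : IsPGroup p A) (hB : IsPGroup p B)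
    (h : B ≤ Subgroup.normalizer (A : Set H)) : IsPGroup p (A ⊔ B : Subgroup H) := by
  have := IsPGroup.to_sup_of_normal_right' hB hA h
  rwa [sup_comm]

theorem exists_fixed {A B : Subgroup H} (hA : IsPGroup p A) (hA1 : A ≠ ⊥) (hB : IsPGroup p B)
    (h : B ≤ Subgroup.normalizer (A : Set H)) :
    ∃ z ∈ A, z ≠ 1 ∧ z ∈ Subgroup.centralizer (A : Set H) ∧ z ∈ Subgroup.centralizer (B : Set H) := by
  set M := A ⊔ B
  have hM : IsPGroup p M := isPGroup_sup hA hB h
  have : Group.IsNilpotent M := hM.isNilpotent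
  have hn : (A.subgroupOf M).Normal :=
    (Subgroup.normal_subgroupOf_iff_le_normalizer le_sup_left).2 (sup_le Subgroup.le_normalizer h)
  have hne : A.subgroupOf M ≠ ⊥ := fun e => hA1 (le_bot_iff.1 fun a ha => by
    have : (⟨a, Subgroup.mem_sup_left ha⟩ : M) ∈ A.subgroupOf M := ha
    rw [e, Subgroup.mem_bot] at this
    exact congrArg Subtype.val this)
  have h2 := Solv.inf_center_ne_bot hn hne
  obtain ⟨z, hz, hz1⟩ := (Subgroup.bot_or_exists_ne_one _).resolve_left h2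
  refine ⟨z, hz.1, fun e => hz1 (Subtype.ext e), fun a ha => ?_, fun b hb => ?_⟩
  · exact congrArg Subtype.val (Subgroup.mem_center_iff.1 hz.2 ⟨a, Subgroup.mem_sup_left ha⟩)
  · exact congrArg Subtype.val (Subgroup.mem_center_iff.1 hz.2 ⟨b, Subgroup.mem_sup_right hb⟩)

theorem key (hQ : IsPGroup p Q) (hL : IsLarge Q) {P : Subgroup H} (hP : IsPGroup p P) (hP1 : P ≠ ⊥)
    (hn : Q ≤ Subgroup.normalizer (P : Set H)) :
    P ≤ Subgroup.normalizer (Q : Set H) ∧ Subgroup.centralizer (P : Set H) ≤ Subgroup.normalizer (Q : Set H) := by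
  obtain ⟨z, hz, hz1, hzP, hzQ⟩ := exists_fixed hP hP1 hQ hn
  have hN := hL.2 (Subgroup.zpowers z) (Subgroup.zpowers_le.2 hzQ) (by rwa [Ne, Subgroup.zpowers_eq_bot])
  refine ⟨fun x hx => hN (Subgroup.centralizer_le_normalizer _ ?_), fun x hx => hN (Subgroup.centralizer_le_normalizer _ ?_)⟩
  · intro y hy
    obtain ⟨k, rfl⟩ := Subgroup.mem_zpowers_iff.1 hy
    exact ((show Commute x z from Subgroup.mem_centralizer_iff.1 hzP x hx).symm.zpow_left k).eq
  · intro y hy
    obtain ⟨k, rfl⟩ := Subgroup.mem_zpowers_iff.1 hy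
    exact ((show Commute z x from Subgroup.mem_centralizer_iff.1 hx z hz).zpow_left k).eq

theorem sylow_le_normalizer (hL : IsLarge Q) (hQ1 : Q ≠ ⊥) (S : Sylow p H) (hQS : Q ≤ (S : Subgroup H)) :
    Subgroup.normalizer ((S : Subgroup H) : Set H) ≤ Subgroup.normalizer (Q : Set H) := by
  have : Nontrivial (S : Subgroup H) :=
    (Subgroup.nontrivial_iff_ne_bot _).2 fun e => hQ1 (le_bot_iff.1 (e ▸ hQS))
  have hc := (S.2 : IsPGroup p (S : Subgroup H)).center_nontrivial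
  set U := (Subgroup.center (S : Subgroup H)).map (S : Subgroup H).subtype
  have hU1 : U ≠ ⊥ := by
    rw [Ne, Subgroup.map_eq_bot_iff_of_injective _ (S : Subgroup H).subtype_injective]
    exact (Subgroup.nontrivial_iff_ne_bot _).1 hc
  have hUQ : U ≤ Subgroup.centralizer (Q : Set H) := by
    rintro _ ⟨u, hu, rfl⟩ q hq
    exact congrArg Subtype.val (Subgroup.mem_center_iff.1 hu ⟨q, hQS hq⟩)
  refine le_trans (fun n hn => ?_) (hL.2 U hUQ hU1)
  have key : ∀ n ∈ Subgroup.normalizer ((S : Subgroup H) : Set H), ∀ u ∈ U, n * u * n⁻¹ ∈ U := by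
    rintro n hn _ ⟨u, hu, rfl⟩
    refine ⟨⟨n * (u : H) * n⁻¹, (Subgroup.mem_normalizer_iff.1 hn _).1 u.2⟩, ?_, rfl⟩
    rw [SetLike.mem_coe, Subgroup.mem_center_iff]
    intro s
    have hs : n⁻¹ * (s : H) * n ∈ (S : Subgroup H) := by
      have := (Subgroup.mem_normalizer_iff.1 (Subgroup.inv_mem _ hn) (s : H)).1 s.2
      simpa using this
    have e : n⁻¹ * (s : H) * n * (u : H) = (u : H) * (n⁻¹ * (s : H) * n) :=
      congrArg Subtype.val (Subgroup.mem_center_iff.1 hu ⟨_, hs⟩)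
    refine Subtype.ext ?_
    show (s : H) * (n * (u : H) * n⁻¹) = n * (u : H) * n⁻¹ * (s : H)
    calc (s : H) * (n * (u : H) * n⁻¹) = n * (n⁻¹ * (s : H) * n * (u : H)) * n⁻¹ := by group
      _ = n * ((u : H) * (n⁻¹ * (s : H) * n)) * n⁻¹ := by rw [e]
      _ = _ := by group
  rw [Subgroup.mem_normalizer_iff]
  refine fun x => ⟨key n hn x, fun hx => ?_⟩
  simpa [mul_assoc] using key n⁻¹ (Subgroup.inv_mem _ hn) _ hx

theorem eq_of_common (hQ1 : Q ≠ ⊥) (hL : IsLarge Q) {T : Subgroup H} (hT : IsPGroup p T) (hQT : Q ≤ T) (g : H)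
    (hgT : cnj Q g ≤ T) : cnj Q g = Q := by
  obtain ⟨S, hS⟩ := hT.exists_le_sylow
  set R := cnj Q g
  have hSR : (S : Subgroup H) ≤ Subgroup.normalizer (R : Set H) :=
    Subgroup.le_normalizer.trans (sylow_le_normalizer (isLarge_cnj hL g)
      (by rw [Ne, Subgroup.map_eq_bot_iff_of_injective _ (MulAut.conj g).injective]; exact hQ1) S (hgT.trans hS))
  have hSR' : ((g • S : Sylow p H) : Subgroup H) ≤ Subgroup.normalizer (R : Set H) := by
    intro x hx
    rw [Sylow.coe_subgroup_smul] at hx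
    obtain ⟨s, hs, rfl⟩ := hx
    refine mem_normalizer_cnj.2 ?_
    show g⁻¹ * (g * s * g⁻¹) * g ∈ _
    have := (Subgroup.le_normalizer.trans (sylow_le_normalizer hL hQ1 S (hQT.trans hS))) hs
    simpa [mul_assoc] using this
  obtain ⟨n, hn⟩ := MulAction.exists_smul_eq (Subgroup.normalizer (R : Set H)) ((g • S).subtype hSR') (S.subtype hSR)
  rw [Sylow.smul_subtype] at hn
  have hfix := Sylow.subtype_injective hn
  rw [Subgroup.smul_def, smul_smul] at hfix
  have hx := sylow_le_normalizer hL hQ1 S (hQT.trans hS) (Sylow.smul_eq_iff_mem_normalizer.1 hfix)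
  refine le_antisymm (fun y hy => ?_) fun y hy => ?_
  · have h1 := (Subgroup.mem_normalizer_iff.1 (Subgroup.inv_mem _ n.2) y).1 hy
    have h2 := mem_cnj.1 h1
    have h3 := (Subgroup.mem_normalizer_iff.1 hx _).1 h2
    simpa [mul_assoc] using h3
  · have h1 := (Subgroup.mem_normalizer_iff.1 (Subgroup.inv_mem _ hx) y).1 hy
    have h2 := cnj_mem (g := g) h1
    have h3 := (Subgroup.mem_normalizer_iff.1 n.2 _).1 h2
    simpa [mul_assoc] using h3

theorem comm_fixed {Q₁ : Subgroup H} (hQ : IsPGroup p Q₁) {y : H} (hy : (orderOf y).Coprime p) {W : Subgroup H}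
    (hW : ∀ q ∈ Q₁, q⁻¹ * (y * q * y⁻¹) ∈ W ⊓ Q₁) (hWy : ∀ w ∈ W, y * w = w * y) :
    ∀ q ∈ Q₁, y * q = q * y := by
  intro q hq
  obtain ⟨hw, hwQ⟩ := hW q hq
  set w := q⁻¹ * (y * q * y⁻¹)
  have e : ∀ n : ℕ, y ^ n * q * (y ^ n)⁻¹ = q * w ^ n := by
    intro n
    induction n with
    | zero => simp
    | succ n ih =>
      calc y ^ (n + 1) * q * (y ^ (n + 1))⁻¹ = y * (y ^ n * q * (y ^ n)⁻¹) * y⁻¹ := by rw [pow_succ']; group
        _ = y * (q * w ^ n) * y⁻¹ := by rw [ih]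
        _ = (y * q * y⁻¹) * (y * w ^ n * y⁻¹) := by group
        _ = q * w * w ^ n := by
            rw [((show Commute y w from hWy w hw).pow_right n).eq, mul_inv_cancel_right]
            simp only [w]; group
        _ = q * w ^ (n + 1) := by rw [mul_assoc, ← pow_succ']
  have h1 := e (orderOf y)
  rw [pow_orderOf_eq_one, one_mul, inv_one, mul_one] at h1
  have h2 : w ^ orderOf y = 1 := mul_left_cancel (by rw [mul_one]; exact h1.symm : q * w ^ orderOf y = q * 1)
  obtain ⟨k, hk⟩ := hQ ⟨w, hwQ⟩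
  have h3 := (pow_gcd_eq_one (a := w)).2 ⟨h2, (congrArg Subtype.val hk :)⟩
  rw [(Nat.Coprime.pow_right k hy).gcd_eq_one, pow_one] at h3
  calc y * q = q * w * y := by simp only [w]; group
    _ = q * y := by rw [h3, mul_one]

theorem pCoreOf_props (L : Subgroup H) :
    IsPGroup p (pCoreOf p L) ∧ pCoreOf p L ≤ L ∧ L ≤ Subgroup.normalizer (pCoreOf p L : Set H) := by
  refine ⟨(Solv.pCore_mem (G := L) p).2.map _, Subgroup.map_subtype_le _, fun x hx => ?_⟩
  have key : ∀ x ∈ L, ∀ y ∈ pCoreOf p L, x * y * x⁻¹ ∈ pCoreOf p L := by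
    rintro x hx _ ⟨y, hy, rfl⟩
    exact ⟨_, (inferInstance : (pCore p L).Normal).conj_mem y hy ⟨x, hx⟩, rfl⟩
  rw [Subgroup.mem_normalizer_iff]
  exact fun y => ⟨key x hx y, fun hy => by simpa [mul_assoc] using key x⁻¹ (L.inv_mem hx) _ hy⟩

theorem le_pCoreOf {L N : Subgroup H} (hNL : N ≤ L) (hn : L ≤ Subgroup.normalizer (N : Set H))
    (hN : IsPGroup p N) : N ≤ pCoreOf p L := by
  intro x hx
  exact ⟨⟨x, hNL hx⟩, Solv.le_pCore ((Subgroup.normal_subgroupOf_iff_le_normalizer hNL).2 hn)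
    (hN.of_equiv (Subgroup.subgroupOfEquivOfLe hNL).symm) hx, rfl⟩

theorem isPGroup_centralizer (hQ : IsPGroup p Q) (hL : IsLarge Q) {L : Subgroup H} (hQL : Q ≤ L)
    (hO : pCore p L ≠ ⊥) : IsPGroup p (Subgroup.centralizer (pCoreOf p L : Set H)) := by
  obtain ⟨hPp, hPL, hLn⟩ := pCoreOf_props (p := p) L
  set P := pCoreOf p L
  have hP1 : P ≠ ⊥ := fun e => hO ((Subgroup.map_eq_bot_iff_of_injective _ L.subtype_injective).1 e)
  obtain ⟨hPN, hCN⟩ := key hQ hL hPp hP1 (hQL.trans hLn)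
  set C := Subgroup.centralizer (P : Set H)
  have hQC : ∀ q ∈ Q, ∀ c ∈ C, q * c * q⁻¹ ∈ C := fun q hq c hc => by
    rw [Subgroup.mem_centralizer_iff]
    intro x hx
    have hx' := (Subgroup.mem_normalizer_iff.1 (hLn (L.inv_mem (hQL hq))) x).1 hx
    have e := Subgroup.mem_centralizer_iff.1 hc _ hx'
    simp only [inv_inv] at e
    calc x * (q * c * q⁻¹) = q * (q⁻¹ * x * q * c) * q⁻¹ := by group
      _ = q * (c * (q⁻¹ * x * q)) * q⁻¹ := by rw [e]
      _ = _ := by group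
  have hW0 : Q ⊓ C ≤ P := by
    refine le_trans (le_pCoreOf (p := p) (L := L ⊓ C) (le_inf (inf_le_left.trans hQL) inf_le_right) ?_
      (hQ.to_le inf_le_left)) ?_
    · intro x hx
      rw [Subgroup.mem_normalizer_iff]
      have k1 : ∀ x ∈ L ⊓ C, ∀ w ∈ Q ⊓ C, x * w * x⁻¹ ∈ Q ⊓ C := fun x hx w hw =>
        ⟨(Subgroup.mem_normalizer_iff.1 (hCN hx.2) w).1 hw.1, C.mul_mem (C.mul_mem hx.2 hw.2) (C.inv_mem hx.2)⟩
      exact fun w => ⟨k1 x hx w, fun hw => by simpa [mul_assoc] using k1 x⁻¹ (Subgroup.inv_mem _ hx) _ hw⟩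
    · obtain ⟨h1, h2, -⟩ := pCoreOf_props (p := p) (L ⊓ C)
      refine le_pCoreOf (h2.trans inf_le_left) (fun x hx => ?_) h1
      have k1 : ∀ x ∈ L, ∀ y ∈ pCoreOf p (L ⊓ C), x * y * x⁻¹ ∈ pCoreOf p (L ⊓ C) := by
        intro x hx y hy
        have hm : cnj (pCoreOf p (L ⊓ C)) x ≤ pCoreOf p (L ⊓ C) := by
          have hc : ∀ x ∈ L, ∀ c ∈ L ⊓ C, x * c * x⁻¹ ∈ L ⊓ C := fun x hx c hc => by
            refine ⟨L.mul_mem (L.mul_mem hx hc.1) (L.inv_mem hx), ?_⟩
            refine Subgroup.mem_centralizer_iff.2 fun z hz => ?_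
            have hz' := (Subgroup.mem_normalizer_iff.1 (hLn (L.inv_mem hx)) z).1 hz
            have e := Subgroup.mem_centralizer_iff.1 hc.2 _ hz'
            simp only [inv_inv] at e
            calc z * (x * c * x⁻¹) = x * (x⁻¹ * z * x * c) * x⁻¹ := by group
              _ = x * (c * (x⁻¹ * z * x)) * x⁻¹ := by rw [e]
              _ = _ := by group
          refine le_pCoreOf ?_ ?_ (h1.map _)
          · rintro _ ⟨c, hc', rfl⟩; exact hc x hx c (h2 hc')
          · intro c hc'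
            refine mem_normalizer_cnj.2 ((pCoreOf_props (p := p) (L ⊓ C)).2.2 ?_)
            simpa using hc x⁻¹ (L.inv_mem hx) c hc'
        exact hm (cnj_mem hy)
      rw [Subgroup.mem_normalizer_iff]
      exact fun y => ⟨k1 x hx y, fun hy => by simpa [mul_assoc] using k1 x⁻¹ (L.inv_mem hx) _ hy⟩
  rw [IsPGroup.iff_card]
  refine ⟨_, (Nat.eq_prime_pow_of_unique_prime_dvd Nat.card_pos.ne' fun {d} hd hdvd => ?_)⟩
  by_contra hne
  have : Fact d.Prime := ⟨hd⟩
  obtain ⟨c, hc⟩ := exists_prime_orderOf_dvd_card' (G := C) d hdvd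
  have hy : orderOf (c : H) = d := by rw [Subgroup.orderOf_coe, hc]
  have hcop : (orderOf (c : H)).Coprime p := by rw [hy]; exact (Nat.coprime_primes hd Fact.out).2 hne
  have hyfix := comm_fixed hQ hcop (W := Q ⊓ C) (fun q hq => by
    have hcQ := (Subgroup.mem_normalizer_iff.1 (hCN c.2) q).1 hq
    refine ⟨⟨Q.mul_mem (Q.inv_mem hq) hcQ, ?_⟩, Q.mul_mem (Q.inv_mem hq) hcQ⟩
    rw [show q⁻¹ * ((c : H) * q * (c : H)⁻¹) = (q⁻¹ * (c : H) * q) * (c : H)⁻¹ by group]
    exact C.mul_mem (by simpa using hQC q⁻¹ (Q.inv_mem hq) c c.2) (C.inv_mem c.2))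
    fun w hw => (Subgroup.mem_centralizer_iff.1 c.2 w (hW0 hw)).symm
  have hcQ : (c : H) ∈ Q := hL.1 fun q hq => (hyfix q hq).symm
  obtain ⟨k, hk⟩ := hQ ⟨_, hcQ⟩
  have h2 : orderOf (c : H) ∣ p ^ k := orderOf_dvd_of_pow_eq_one (congrArg Subtype.val hk :)
  rw [hy] at h2
  exact hne ((Nat.prime_dvd_prime_iff_eq hd Fact.out).1 (hd.dvd_of_dvd_pow h2))

theorem charP_of_large (hQ : IsPGroup p Q) (hL : IsLarge Q) {L : Subgroup H} (hQL : Q ≤ L) (hO : pCore p L ≠ ⊥) :
    Subgroup.centralizer (pCore p L : Set L) ≤ pCore p L := by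
  refine Solv.le_pCore inferInstance ?_
  refine IsPGroup.of_injective (isPGroup_centralizer hQ hL hQL hO)
    ((L.subtype.comp (Subgroup.centralizer (pCore p L : Set L)).subtype).codRestrict _ fun x => ?_)
    fun a b hab => by have e := congrArg Subtype.val hab; exact Subtype.ext (Subtype.ext e)
  rw [Subgroup.mem_centralizer_iff]
  rintro _ ⟨y, hy, rfl⟩
  exact congrArg Subtype.val (Subgroup.mem_centralizer_iff.1 x.2 y hy)

theorem le_weakClosure {L : Subgroup H} {g : H} (hg : cnj Q g ≤ L) : cnj Q g ≤ weakClosure Q L :=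
  le_iSup (fun g : {g : H // Q.map (MulAut.conj g).toMonoidHom ≤ L} => Q.map (MulAut.conj (g : H)).toMonoidHom) ⟨g, hg⟩

theorem cnj_one (Q : Subgroup H) : cnj Q 1 = Q := TwoFus.conjMap_one Q

theorem large_facts (hQ : IsPGroup p Q) (hQ1 : Q ≠ ⊥) (hL : IsLarge Q) :
    (∀ L : Subgroup H, Q ≤ L → pCore p L ≠ ⊥ →
      IsPGroup p (Subgroup.centralizer (pCoreOf p L : Set H)) ∧
        Subgroup.centralizer (pCore p L : Set L) ≤ pCore p L ∧
        (weakClosure Q L = Q ∨ Subgroup.centralizer (weakClosure Q L : Set H) = ⊥)) ∧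
      (∀ R : Subgroup H, IsParabolic p R → pCore p R ≠ ⊥ →
        Subgroup.centralizer (pCoreOf p R : Set H) ≤ pCoreOf p R) ∧ IsOfParabolicCharacteristic p H := by
  have hpar : ∀ R : Subgroup H, IsParabolic p R → pCore p R ≠ ⊥ →
      Subgroup.centralizer (pCoreOf p R : Set H) ≤ pCoreOf p R ∧
        Subgroup.centralizer (pCore p R : Set R) ≤ pCore p R := by
    rintro R ⟨T, hT⟩ hO
    obtain ⟨S, hS⟩ := hQ.exists_le_sylow
    obtain ⟨a, ha⟩ := MulAction.exists_smul_eq H S T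
    have hle : cnj Q a ≤ (T : Subgroup H) := by
      rw [← ha, Sylow.coe_subgroup_smul]; exact Subgroup.map_mono hS
    have hp1 := isPGroup_centralizer (isPGroup_cnj hQ a) (isLarge_cnj hL a) (hle.trans hT) hO
    refine ⟨?_, charP_of_large (isPGroup_cnj hQ a) (isLarge_cnj hL a) (hle.trans hT) hO⟩
    obtain ⟨-, -, hRn⟩ := pCoreOf_props (p := p) R
    set C := Subgroup.centralizer (pCoreOf p R : Set H)
    have hRC : R ≤ Subgroup.normalizer (C : Set H) := by
      intro x hx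
      have k1 : ∀ x ∈ R, ∀ c ∈ C, x * c * x⁻¹ ∈ C := fun x hx c hc => by
        rw [Subgroup.mem_centralizer_iff]
        intro z hz
        have hz' := (Subgroup.mem_normalizer_iff.1 (hRn (R.inv_mem hx)) z).1 hz
        have e := Subgroup.mem_centralizer_iff.1 hc _ hz'
        simp only [inv_inv] at e
        calc z * (x * c * x⁻¹) = x * (x⁻¹ * z * x * c) * x⁻¹ := by group
          _ = x * (c * (x⁻¹ * z * x)) * x⁻¹ := by rw [e]
          _ = _ := by group
      rw [Subgroup.mem_normalizer_iff]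
      exact fun c => ⟨k1 x hx c, fun hc => by simpa [mul_assoc] using k1 x⁻¹ (R.inv_mem hx) _ hc⟩
    have h2 := isPGroup_sup hp1 T.2 (hT.trans hRC)
    have hCT : C ≤ (T : Subgroup H) := (T.is_maximal' h2 le_sup_right) ▸ le_sup_left
    exact le_pCoreOf (hCT.trans hT) hRC hp1
  refine ⟨fun L hQL hO => ⟨isPGroup_centralizer hQ hL hQL hO, charP_of_large hQ hL hQL hO, ?_⟩,
    fun R hR hO => (hpar R hR hO).1, fun R hR hR1 hp => (hpar _ hp fun e => hR1 ?_).2⟩
  · by_cases hV : Subgroup.centralizer (weakClosure Q L : Set H) = ⊥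
    · exact Or.inr hV
    left
    have hQW : Q ≤ weakClosure Q L := by
      have h1 := le_weakClosure (Q := Q) (L := L) (g := 1) (by rw [cnj_one]; exact hQL)
      rwa [cnj_one] at h1
    refine le_antisymm (iSup_le fun g => ?_) hQW
    have hgW := le_weakClosure (Q := Q) g.2
    have hN := (isLarge_cnj hL (g : H)).2 _ (Subgroup.centralizer_le hgW) hV
    have hQg : Q ≤ Subgroup.normalizer (cnj Q (g : H) : Set H) := by
      refine le_trans (hQW.trans ?_) hN
      intro w hw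
      refine Subgroup.centralizer_le_normalizer _ ?_
      intro v hv
      exact (Subgroup.mem_centralizer_iff.1 hv w hw).symm
    exact (eq_of_common hQ1 hL (isPGroup_sup (isPGroup_cnj hQ _) hQ hQg) le_sup_right g le_sup_left).le
  · have h3 : R.subgroupOf (Subgroup.normalizer (R : Set H)) ≤ pCore p (Subgroup.normalizer (R : Set H)) :=
      Solv.le_pCore Subgroup.normal_in_normalizer (hR.of_equiv (Subgroup.subgroupOfEquivOfLe Subgroup.le_normalizer).symm)
    rw [e, le_bot_iff, Subgroup.subgroupOf_eq_bot] at h3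
    exact le_bot_iff.1 (le_trans (le_inf le_rfl Subgroup.le_normalizer) (disjoint_iff.1 h3).le)

theorem weakClosure_facts (hQ : IsPGroup p Q) (hQ1 : Q ≠ ⊥) (hL : IsLarge Q) (L : Subgroup H) (hQL : Q ≤ L)
    (Y : Subgroup H) (hYp : IsPGroup p Y) (hY1 : Y ≠ ⊥) (hLY : L ≤ Subgroup.normalizer (Y : Set H)) :
    weakClosure Q L = weakClosure Q (L ⊔ Subgroup.centralizer (Y : Set H)) ∧
      ⁅weakClosure Q L, Subgroup.centralizer (Y : Set H)⁆ ≤ pCoreOf p (weakClosure Q L) ∧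
      Subgroup.centralizer (Y : Set H) ≤ Subgroup.normalizer (weakClosure Q L : Set H) := by
  set C := Subgroup.centralizer (Y : Set H)
  set W := weakClosure Q L
  have hCn : Subgroup.normalizer (Y : Set H) ≤ Subgroup.normalizer (C : Set H) := by
    intro x hx
    have k1 : ∀ x ∈ Subgroup.normalizer (Y : Set H), ∀ c ∈ C, x * c * x⁻¹ ∈ C := fun x hx c hc => by
      rw [Subgroup.mem_centralizer_iff]
      intro z hz
      have hz' := (Subgroup.mem_normalizer_iff.1 (Subgroup.inv_mem _ hx) z).1 hz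
      have e := Subgroup.mem_centralizer_iff.1 hc _ hz'
      simp only [inv_inv] at e
      calc z * (x * c * x⁻¹) = x * (x⁻¹ * z * x * c) * x⁻¹ := by group
        _ = x * (c * (x⁻¹ * z * x)) * x⁻¹ := by rw [e]
        _ = _ := by group
    rw [Subgroup.mem_normalizer_iff]
    exact fun c => ⟨k1 x hx c, fun hc => by simpa [mul_assoc] using k1 x⁻¹ (Subgroup.inv_mem _ hx) _ hc⟩
  have hnorm : ∀ g, cnj Q g ≤ Subgroup.normalizer (Y : Set H) → C ≤ Subgroup.normalizer (cnj Q g : Set H) :=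
    fun g hg => (key (isPGroup_cnj hQ g) (isLarge_cnj hL g) hYp hY1 hg).2
  have hWY : W ≤ Subgroup.normalizer (Y : Set H) := iSup_le fun g => g.2.trans hLY
  have hWC : C ≤ Subgroup.normalizer (W : Set H) := by
    have k1 : ∀ c ∈ C, cnj W c ≤ W := by
      intro c hc
      show W.map _ ≤ W
      rw [show W = ⨆ g : {g : H // Q.map (MulAut.conj g).toMonoidHom ≤ L}, Q.map (MulAut.conj (g : H)).toMonoidHom from rfl,
        Subgroup.map_iSup]
      refine iSup_le fun g => ?_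
      rintro _ ⟨y, hy, rfl⟩
      exact le_iSup (fun g : {g : H // Q.map (MulAut.conj g).toMonoidHom ≤ L} => Q.map (MulAut.conj (g : H)).toMonoidHom) g
        ((Subgroup.mem_normalizer_iff.1 (hnorm g (g.2.trans hLY) hc) y).1 hy)
    intro c hc
    rw [Subgroup.mem_normalizer_iff]
    exact fun w => ⟨fun hw => k1 c hc (cnj_mem hw), fun hw => by
      simpa [mul_assoc] using k1 c⁻¹ (C.inv_mem hc) (cnj_mem hw)⟩
  refine ⟨le_antisymm (iSup_le fun g => le_weakClosure (Q := Q) (g.2.trans le_sup_left)) (iSup_le fun x => ?_), ?_, hWC⟩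
  · -- a conjugate inside `L C(Y)` lies in `L`
    have hM : L ⊔ C ≤ Subgroup.normalizer (Y : Set H) := sup_le hLY (Subgroup.centralizer_le_normalizer _)
    obtain ⟨T, hT⟩ := (hQ.of_equiv (Subgroup.subgroupOfEquivOfLe (hQL.trans le_sup_left : Q ≤ L ⊔ C)).symm).exists_le_sylow
    obtain ⟨T', hT'⟩ := ((isPGroup_cnj hQ (x : H)).of_equiv (Subgroup.subgroupOfEquivOfLe x.2).symm).exists_le_sylow
    obtain ⟨k, hk⟩ := MulAction.exists_smul_eq ↥(L ⊔ C) T' T
    have h2 : cnj Q ((k : H) * x) ≤ ((T : Subgroup ↥(L ⊔ C)).map (L ⊔ C).subtype) := by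
      rintro _ ⟨q, hq, rfl⟩
      have hm : (⟨(x : H) * q * (x : H)⁻¹, x.2 (cnj_mem hq)⟩ : ↥(L ⊔ C)) ∈ (T' : Subgroup ↥(L ⊔ C)) :=
        hT' (cnj_mem hq)
      refine ⟨k * ⟨(x : H) * q * (x : H)⁻¹, x.2 (cnj_mem hq)⟩ * k⁻¹, ?_, ?_⟩
      · rw [← hk, Sylow.coe_subgroup_smul]; exact ⟨_, hm, rfl⟩
      · show (k : H) * ((x : H) * q * (x : H)⁻¹) * (k : H)⁻¹ = (k : H) * x * q * ((k : H) * x)⁻¹
        group
    have h3 := eq_of_common hQ1 hL (T.2.map _) (fun q hq => ⟨⟨q, hQL.trans le_sup_left hq⟩, hT hq, rfl⟩) _ h2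
    have hk2 : ((k : H))⁻¹ ∈ (L ⊔ C : Subgroup H) := Subgroup.inv_mem _ k.2
    rw [← SetLike.mem_coe, Subgroup.coe_mul_of_left_le_normalizer_right L C (hLY.trans hCn)] at hk2
    obtain ⟨l, hl, c, hc, hlc⟩ := hk2
    have h4 : cnj Q (x : H) ≤ cnj Q l := by
      intro y hy
      have h5 : (k : H) * y * (k : H)⁻¹ ∈ Q := by
        rw [← h3, mem_cnj]
        simpa [mul_assoc] using mem_cnj.1 hy
      rw [mem_cnj]
      have h6 := (Subgroup.mem_normalizer_iff.1 (hnorm 1 (by rw [cnj_one]; exact hQL.trans hLY) hc) _).1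
        ((cnj_one Q).symm ▸ h5)
      rw [cnj_one] at h6
      convert h6 using 1
      have : c = l⁻¹ * (k : H)⁻¹ := by rw [← hlc]; group
      rw [this]; group
    refine h4.trans (le_weakClosure (Q := Q) ?_)
    rintro _ ⟨q, hq, rfl⟩
    exact L.mul_mem (L.mul_mem hl (hQL hq)) (L.inv_mem hl)
  · let D : Subgroup H := ⨆ g : {g : H // Q.map (MulAut.conj g).toMonoidHom ≤ L}, cnj Q (g : H) ⊓ C
    have hDW : D ≤ W := iSup_le fun g => inf_le_left.trans (le_weakClosure g.2)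
    have hDp : IsPGroup p D := by
      have hfac : ∀ g : {g : H // Q.map (MulAut.conj g).toMonoidHom ≤ L},
          (cnj Q (g : H) ⊓ C).subgroupOf C ≤ pCore p C := by
        intro g
        refine Solv.le_pCore ((Subgroup.normal_subgroupOf_iff_le_normalizer inf_le_right).2 fun c hc => ?_)
          (((isPGroup_cnj hQ _).to_le inf_le_left).of_equiv (Subgroup.subgroupOfEquivOfLe inf_le_right).symm)
        rw [Subgroup.mem_normalizer_iff]
        have k1 : ∀ c ∈ C, ∀ y ∈ cnj Q (g : H) ⊓ C, c * y * c⁻¹ ∈ cnj Q (g : H) ⊓ C := fun c hc y hy =>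
          ⟨(Subgroup.mem_normalizer_iff.1 (hnorm g (g.2.trans hLY) hc) y).1 hy.1, C.mul_mem (C.mul_mem hc hy.2) (C.inv_mem hc)⟩
        exact fun y => ⟨k1 c hc y, fun hy => by simpa [mul_assoc] using k1 c⁻¹ (C.inv_mem hc) _ hy⟩
      refine (Solv.pCore_mem (G := C) p).2.map C.subtype |>.to_le ?_
      refine iSup_le fun g => ?_
      intro y hy
      exact ⟨⟨y, hy.2⟩, hfac g hy, rfl⟩
    have hWD : ∀ v ∈ W, ∀ d ∈ D, v * d * v⁻¹ ∈ D := by
      have gen : ∀ g : {g : H // Q.map (MulAut.conj g).toMonoidHom ≤ L}, ∀ v ∈ W ⊓ L, ∀ d ∈ cnj Q (g : H) ⊓ C,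
          v * d * v⁻¹ ∈ D := by
        intro g v hv d hd
        have hm : cnj Q (v * g) ≤ L := by
          rintro _ ⟨q, hq, rfl⟩
          have := L.mul_mem (L.mul_mem hv.2 (g.2 (cnj_mem hq))) (L.inv_mem hv.2)
          show v * (g : H) * q * (v * (g : H))⁻¹ ∈ L
          convert this using 1
          group
        refine le_iSup (fun g : {g : H // Q.map (MulAut.conj g).toMonoidHom ≤ L} => cnj Q (g : H) ⊓ C) ⟨_, hm⟩
          ⟨?_, (Subgroup.mem_normalizer_iff.1 (hCn (hLY hv.2)) d).1 hd.2⟩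
        refine mem_cnj.2 ?_
        convert mem_cnj.1 hd.1 using 1
        group
      intro v hv d hd
      have hvL : v ∈ L := (iSup_le fun g => g.2 : W ≤ L) hv
      have hle : D ≤ D.comap (MulAut.conj v).toMonoidHom :=
        iSup_le fun g => fun y hy => gen g v ⟨hv, hvL⟩ y hy
      exact hle hd
    refine le_trans ?_ (le_pCoreOf hDW (fun v hv => ?_) hDp)
    · rw [Subgroup.commutator_le]
      intro w hw c hc
      induction hw using Subgroup.iSup_induction' with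
      | hp g q hq =>
        refine le_iSup (fun g : {g : H // Q.map (MulAut.conj g).toMonoidHom ≤ L} => cnj Q (g : H) ⊓ C) g ⟨?_, ?_⟩
        · rw [commutatorElement_def]
          have := (Subgroup.mem_normalizer_iff.1 (hnorm g (g.2.trans hLY) hc) q⁻¹).1 (Subgroup.inv_mem _ hq)
          show q * c * q⁻¹ * c⁻¹ ∈ cnj Q (g : H)
          convert Subgroup.mul_mem (cnj Q (g : H)) hq this using 1
          group
        · rw [commutatorElement_def]
          exact C.mul_mem ((Subgroup.mem_normalizer_iff.1 (hCn (hLY (g.2 hq))) c).1 hc) (C.inv_mem hc)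
      | h1 => simp
      | hmul a b ha hb iha ihb =>
        have e : ⁅a * b, c⁆ = a * ⁅b, c⁆ * a⁻¹ * ⁅a, c⁆ := by simp only [commutatorElement_def]; group
        rw [e]
        exact D.mul_mem (hWD a ha _ ihb) iha
    · rw [Subgroup.mem_normalizer_iff]
      exact fun d => ⟨hWD v hv d, fun hd => by simpa [mul_assoc] using hWD v⁻¹ (W.inv_mem hv) _ hd⟩

end Cfsg.Agent.Even.Large
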