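import Cfsg.Agent.Even.Large

set_option autoImplicit false

/-! Large subgroups: disjointness of conjugate centralizers. -/

namespace Cfsg.Agent.Even.Large

open Cfsg

variable {H : Type*} [Group H] [Finite H] {p : ℕ} [Fact p.Prime] {Q : Subgroup H}

theorem disjoint_cnj (hQ : IsPGroup p Q) (hQ1 : Q ≠ ⊥) (hL : IsLarge Q) (g : H)
    (hg : g ∉ Subgroup.normalizer (Q : Set H)) :
    Subgroup.centralizer (Q : Set H) ⊓ Subgroup.centralizer (cnj Q g : Set H) = ⊥ := by
  by_contra hU
  have h1 : Subgroup.normalizer ((Subgroup.centralizer (Q : Set H) ⊓ Subgroup.centralizer (cnj Q g : Set H) : Subgroup H) : Set H)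
      ≤ Subgroup.normalizer (cnj Q g : Set H) := (isLarge_cnj hL g).2 _ inf_le_right hU
  have hQg : Q ≤ Subgroup.normalizer (cnj Q g : Set H) := by
    refine le_trans (fun q hq => Subgroup.centralizer_le_normalizer _ ?_) h1
    intro u hu
    exact (Subgroup.mem_centralizer_iff.1 hu.1 q hq).symm
  have e := eq_of_common hQ1 hL (isPGroup_sup (isPGroup_cnj hQ g) hQ hQg) le_sup_right g le_sup_left
  refine hg (Subgroup.mem_normalizer_iff.2 fun x => ⟨fun hx => ?_, fun hx => ?_⟩)
  · rw [← e]; exact cnj_mem hx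
  · rw [← e, mem_cnj] at hx; simpa [mul_assoc] using hx

theorem bullet_facts (hQ : IsPGroup p Q) (hQ1 : Q ≠ ⊥) (hL : IsLarge Q) :
    IsPGroup p (largeBullet p Q) ∧ largeBullet p Q ≠ ⊥ ∧
      Subgroup.normalizer (Q : Set H) = Subgroup.normalizer (largeBullet p Q : Set H) ∧ IsLarge (largeBullet p Q) := by
  obtain ⟨hp, hle, hn⟩ := pCoreOf_props (p := p) (Subgroup.normalizer (Q : Set H))
  have hQb : Q ≤ largeBullet p Q := le_pCoreOf Subgroup.le_normalizer le_rfl hQ
  have hN : Subgroup.normalizer (Q : Set H) = Subgroup.normalizer (largeBullet p Q : Set H) := by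
    refine le_antisymm hn fun n hn' => ?_
    have hle' : cnj Q n ≤ largeBullet p Q := by
      rintro _ ⟨q, hq, rfl⟩
      exact (Subgroup.mem_normalizer_iff.1 hn' q).1 (hQb hq)
    have e := eq_of_common hQ1 hL hp hQb n hle'
    refine Subgroup.mem_normalizer_iff.2 fun x => ⟨fun hx => ?_, fun hx => ?_⟩
    · rw [← e]; exact cnj_mem hx
    · rw [← e, mem_cnj] at hx; simpa [mul_assoc] using hx
  have hC : Subgroup.centralizer (largeBullet p Q : Set H) ≤ Subgroup.centralizer (Q : Set H) :=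
    Subgroup.centralizer_le hQb
  refine ⟨hp, fun e => hQ1 (le_bot_iff.1 (e ▸ hQb)), hN, (hC.trans hL.1).trans hQb, fun U hU hU1 => ?_⟩
  exact hN ▸ hL.2 U (hU.trans hC) hU1

end Cfsg.Agent.Even.Large
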