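import Cfsg.Agent.Even.Large

set_option autoImplicit false

/-! Equivalent forms of weakly closed subgroups. -/

namespace Cfsg.Agent.Even.WeaklyClosed

open Cfsg Cfsg.Agent.Even.Large
open scoped commutatorElement Pointwise

variable {H : Type*} [Group H] [Finite H] {p : ℕ} [Fact p.Prime] {Q : Subgroup H}

theorem cnj_cnj (Q : Subgroup H) (a b : H) : cnj (cnj Q a) b = cnj Q (b * a) := by
  ext y
  rw [mem_cnj, mem_cnj, mem_cnj]
  simp [mul_assoc]

theorem cnj_eq_of_mem {g : H} (hg : g ∈ Subgroup.normalizer (Q : Set H)) : cnj Q g = Q := by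
  ext y
  rw [mem_cnj]
  have := Subgroup.mem_normalizer_iff.1 (Subgroup.inv_mem _ hg) y
  simpa using this.symm

theorem mem_of_cnj_eq {g : H} (e : cnj Q g = Q) : g ∈ Subgroup.normalizer (Q : Set H) := by
  refine Subgroup.mem_normalizer_iff.2 fun x => ⟨fun hx => e ▸ cnj_mem hx, fun hx => ?_⟩
  rw [← e, mem_cnj] at hx
  simpa [mul_assoc] using hx

theorem wc_eq (hw : IsWeaklyClosedSubgroup p Q) {T : Subgroup H} (hT : IsPGroup p T) (hQT : Q ≤ T) (g : H)
    (hg : cnj Q g ≤ T) : cnj Q g = Q := by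
  obtain ⟨T0, -, hw⟩ := hw
  obtain ⟨S, hS⟩ := hT.exists_le_sylow
  obtain ⟨h, hh⟩ := MulAction.exists_smul_eq H S T0
  have hST : cnj (S : Subgroup H) h ≤ (T0 : Subgroup H) := by
    rw [← hh, Sylow.coe_subgroup_smul]
    exact le_refl _
  have e1 : cnj Q h = Q := hw h ((Subgroup.map_mono (hQT.trans hS)).trans hST)
  have e2 : cnj Q (h * g) = Q := hw _ (by
    show cnj Q (h * g) ≤ _
    rw [← cnj_cnj]; exact (Subgroup.map_mono (hg.trans hS)).trans hST)
  have h1 := Subgroup.mul_mem _ (Subgroup.inv_mem _ (mem_of_cnj_eq e1)) (mem_of_cnj_eq e2)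
  exact cnj_eq_of_mem (by simpa using h1)

theorem to_comm (hQ : IsPGroup p Q) (hw : IsWeaklyClosedSubgroup p Q) (g : H)
    (h : ⁅Q, cnj Q g⁆ ≤ Q ⊓ cnj Q g) : cnj Q g = Q := by
  have hn : cnj Q g ≤ Subgroup.normalizer (Q : Set H) := by
    intro x hx
    have k1 : ∀ x ∈ cnj Q g, ∀ q ∈ Q, x * q * x⁻¹ ∈ Q := fun x hx q hq => by
      have h1 : ⁅q⁻¹, x⁆ ∈ Q := (h (Subgroup.commutator_mem_commutator (Q.inv_mem hq) hx)).1
      have h2 := Q.mul_mem hq h1
      rw [commutatorElement_def] at h2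
      simpa [mul_assoc] using h2
    exact Subgroup.mem_normalizer_iff.2 fun q => ⟨k1 x hx q, fun hq => by
      simpa [mul_assoc] using k1 x⁻¹ (Subgroup.inv_mem _ hx) _ hq⟩
  exact wc_eq hw (isPGroup_sup hQ (isPGroup_cnj hQ g) hn) le_sup_left g le_sup_right

theorem comm_le (g : H) (h1 : Q ≤ Subgroup.normalizer (cnj Q g : Set H))
    (h2 : cnj Q g ≤ Subgroup.normalizer (Q : Set H)) : ⁅Q, cnj Q g⁆ ≤ Q ⊓ cnj Q g := by
  rw [Subgroup.commutator_le]
  intro q hq x hx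
  rw [commutatorElement_def]
  refine ⟨?_, (cnj Q g).mul_mem ((Subgroup.mem_normalizer_iff.1 (h1 hq) x).1 hx) ((cnj Q g).inv_mem hx)⟩
  have := (Subgroup.mem_normalizer_iff.1 (h2 hx) q⁻¹).1 (Q.inv_mem hq)
  simpa [mul_assoc] using Q.mul_mem hq this

variable (hb : ∀ g : H, ⁅Q, cnj Q g⁆ ≤ Q ⊓ cnj Q g → cnj Q g = Q)
include hb

theorem le_normalizer_of_le {R : Subgroup H} (hR : IsPGroup p R) (hQR : Q ≤ R) :
    R ≤ Subgroup.normalizer (Q : Set H) := by
  by_contra hne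
  have : Group.IsNilpotent R := hR.isNilpotent
  set M := R ⊓ Subgroup.normalizer (Q : Set H)
  have hlt : M.subgroupOf R < ⊤ := by
    rw [lt_top_iff_ne_top, Ne, Subgroup.subgroupOf_eq_top]
    exact fun h => hne (h.trans inf_le_right)
  obtain ⟨x, hx, hxM⟩ := SetLike.exists_of_lt (normalizerCondition_of_isNilpotent (G := R) _ hlt)
  have hMQ : ∀ (y : R), y ∈ Subgroup.normalizer (M.subgroupOf R : Set R) → cnj Q (y : H) ≤ M := by
    rintro y hy _ ⟨q, hq, rfl⟩
    exact (Subgroup.mem_normalizer_iff.1 hy ⟨q, hQR hq⟩).1 ⟨hQR hq, Subgroup.le_normalizer hq⟩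
  have hx1 : cnj Q (x : H) ≤ Subgroup.normalizer (Q : Set H) := (hMQ x hx).trans inf_le_right
  have hx2 : Q ≤ Subgroup.normalizer (cnj Q (x : H) : Set H) := by
    intro q hq
    refine mem_normalizer_cnj.2 ?_
    have := hMQ x⁻¹ (Subgroup.inv_mem _ hx) (cnj_mem hq)
    have h3 := this.2
    simpa using h3
  exact hxM ⟨x.2, mem_of_cnj_eq (hb _ (comm_le _ hx2 hx1))⟩

theorem normalizer_le {R : Subgroup H} (hR : IsPGroup p R) (hQR : Q ≤ R) :
    Subgroup.normalizer (R : Set H) ≤ Subgroup.normalizer (Q : Set H) := by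
  intro n hn
  have hle : cnj Q n ≤ R := by
    rintro _ ⟨q, hq, rfl⟩
    exact (Subgroup.mem_normalizer_iff.1 hn q).1 (hQR hq)
  have hRn := le_normalizer_of_le hb hR hQR
  refine mem_of_cnj_eq (hb _ (comm_le _ (fun q hq => mem_normalizer_cnj.2 (hRn ?_)) (hle.trans hRn)))
  have := (Subgroup.mem_normalizer_iff.1 (Subgroup.inv_mem _ hn) q).1 (hQR hq)
  simpa using this

omit hb

theorem of_normalizer (hQ : IsPGroup p Q)
    (hc : ∀ R : Subgroup H, IsPGroup p R → Q ≤ R → Subgroup.normalizer (R : Set H) ≤ Subgroup.normalizer (Q : Set H)) :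
    IsWeaklyClosedSubgroup p Q := by
  obtain ⟨S, hS⟩ := hQ.exists_le_sylow
  refine ⟨S, hS, fun g hgT => ?_⟩
  have hN := hc _ S.2 hS
  set R := cnj Q g
  have hSR : (S : Subgroup H) ≤ Subgroup.normalizer (R : Set H) := by
    intro s hs
    refine mem_normalizer_cnj.2 (hc (cnj (S : Subgroup H) g⁻¹) (isPGroup_cnj S.2 _) ?_ (Subgroup.le_normalizer ?_))
    · intro q hq
      refine mem_cnj.2 ?_
      simpa using hgT (cnj_mem hq)
    · refine mem_cnj.2 ?_
      simpa [mul_assoc] using hs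
  have hSR' : ((g • S : Sylow p H) : Subgroup H) ≤ Subgroup.normalizer (R : Set H) := by
    intro x hx
    rw [Sylow.coe_subgroup_smul] at hx
    obtain ⟨s, hs, rfl⟩ := hx
    refine mem_normalizer_cnj.2 ?_
    show g⁻¹ * (g * s * g⁻¹) * g ∈ _
    simpa [mul_assoc] using hN (Subgroup.le_normalizer hs)
  obtain ⟨n, hn⟩ := MulAction.exists_smul_eq (Subgroup.normalizer (R : Set H)) ((g • S).subtype hSR') (S.subtype hSR)
  rw [Sylow.smul_subtype] at hn
  have hfix := Sylow.subtype_injective hn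
  rw [Subgroup.smul_def, smul_smul] at hfix
  have hx := cnj_eq_of_mem (hN (Sylow.smul_eq_iff_mem_normalizer.1 hfix))
  rw [← cnj_cnj] at hx
  exact (cnj_eq_of_mem (Q := R) n.2).symm.trans hx

end Cfsg.Agent.Even.WeaklyClosed
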