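import Cfsg.Agent.Even.WeaklyClosed

set_option autoImplicit false

/-! Weak closure of a weakly closed subgroup. -/

namespace Cfsg.Agent.Even.WeaklyClosed

open Cfsg Cfsg.Agent.Even.Large
open scoped commutatorElement Pointwise

variable {H : Type*} [Group H] [Finite H] {p : ℕ} [Fact p.Prime] {Q : Subgroup H}

theorem exists_conj_in (hQ : IsPGroup p Q) (hw : IsWeaklyClosedSubgroup p Q) {X : Subgroup H} (hQX : Q ≤ X) (g : H)
    (hg : cnj Q g ≤ X) : ∃ x ∈ X, cnj Q g = cnj Q x := by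
  obtain ⟨S, hS⟩ := (hQ.of_equiv (Subgroup.subgroupOfEquivOfLe hQX).symm).exists_le_sylow
  obtain ⟨T, hT⟩ := ((isPGroup_cnj hQ g).of_equiv (Subgroup.subgroupOfEquivOfLe hg).symm).exists_le_sylow
  obtain ⟨k, hk⟩ := MulAction.exists_smul_eq X T S
  have h1 : cnj Q ((k : H) * g) ≤ (S : Subgroup X).map X.subtype := by
    rw [← cnj_cnj]
    rintro _ ⟨y, hy, rfl⟩
    refine ⟨k * ⟨y, hg hy⟩ * k⁻¹, ?_, rfl⟩
    show _ ∈ (S : Subgroup X)
    rw [← hk, Sylow.coe_subgroup_smul]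
    exact ⟨⟨y, hg hy⟩, hT hy, rfl⟩
  have e := wc_eq hw (S.2.map X.subtype) (fun q hq => ⟨⟨q, hQX hq⟩, hS hq, rfl⟩) _ h1
  refine ⟨(k : H)⁻¹, X.inv_mem k.2, ?_⟩
  conv_rhs => rw [← e, cnj_cnj, inv_mul_cancel_left]

theorem closure_facts (hQ : IsPGroup p Q) (hw : IsWeaklyClosedSubgroup p Q) (K : Subgroup H) (hQK : Q ≤ K) :
    weakClosure Q K = (⨆ k : K, cnj Q (k : H)) ∧
      weakClosure Q K = (subnormalClosure (Q.subgroupOf K)).map K.subtype := by
  have hle : ∀ k : K, cnj Q (k : H) ≤ K := by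
    rintro k _ ⟨q, hq, rfl⟩
    exact K.mul_mem (K.mul_mem k.2 (hQK hq)) (K.inv_mem k.2)
  have e1 : weakClosure Q K = (⨆ k : K, cnj Q (k : H)) := by
    refine le_antisymm (iSup_le fun g => ?_) (iSup_le fun k => le_weakClosure (hle k))
    obtain ⟨x, hx, e⟩ := exists_conj_in hQ hw hQK g g.2
    exact e.le.trans (le_iSup (fun k : K => cnj Q (k : H)) ⟨x, hx⟩)
  refine ⟨e1, le_antisymm ?_ ?_⟩
  · have key : ∀ X : Subgroup K, X.IsSubnormal → Q.subgroupOf K ≤ X → ∀ g : H, cnj Q g ≤ K → (cnj Q g).subgroupOf K ≤ X := by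
      intro X hX
      induction hX with
      | top => exact fun _ _ _ => le_top
      | step A B hAB _ hN ih =>
        intro hQA g hg y hy
        have hB : cnj Q g ≤ B.map K.subtype := fun z hz => ⟨⟨z, hg hz⟩, ih (hQA.trans hAB) g hg hz, rfl⟩
        obtain ⟨x, hx, e⟩ := exists_conj_in hQ hw
          (fun q hq => ⟨⟨q, hQK hq⟩, hAB (hQA hq), rfl⟩ : Q ≤ B.map K.subtype) g hB
        obtain ⟨xB, hxB, rfl⟩ := hx
        have hy' : (y : H) ∈ cnj Q (xB : H) := e ▸ hy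
        obtain ⟨q, hq, hqe⟩ := hy'
        have hyy : y = xB * ⟨q, hQK hq⟩ * xB⁻¹ := Subtype.ext hqe.symm
        rw [hyy]
        exact hN.conj_mem ⟨_, hAB (hQA (show (⟨q, hQK hq⟩ : K) ∈ Q.subgroupOf K from hq))⟩
          (hQA (show (⟨q, hQK hq⟩ : K) ∈ Q.subgroupOf K from hq)) ⟨xB, hxB⟩
    refine iSup_le fun g => fun z hz => ⟨⟨z, g.2 hz⟩, ?_, rfl⟩
    refine Subgroup.mem_sInf.2 fun X hX => key X hX.2 hX.1 g g.2 hz
  · have hn : ((weakClosure Q K).subgroupOf K).Normal := by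
      have hmap : ∀ k : K, cnj (weakClosure Q K) (k : H) ≤ weakClosure Q K := by
        intro k
        show (weakClosure Q K).map _ ≤ _
        rw [weakClosure, Subgroup.map_iSup]
        refine iSup_le fun g => ?_
        show cnj (cnj Q (g : H)) (k : H) ≤ _
        rw [cnj_cnj]
        refine le_weakClosure ?_
        rw [← cnj_cnj]
        rintro _ ⟨y, hy, rfl⟩
        exact K.mul_mem (K.mul_mem k.2 (g.2 hy)) (K.inv_mem k.2)
      exact ⟨fun n hn k => hmap k (cnj_mem hn)⟩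
    refine Subgroup.map_le_iff_le_comap.2 (sInf_le ⟨?_, hn.isSubnormal⟩)
    intro q hq
    have h1 : cnj Q 1 ≤ weakClosure Q K := le_weakClosure (by rw [cnj_one]; exact hQK)
    rw [cnj_one] at h1
    exact h1 hq

end Cfsg.Agent.Even.WeaklyClosed
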