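import Cfsg.Agent.Even.WeaklyClosedClosure
import Cfsg.Agent.Transfer.Basic

set_option autoImplicit false

/-! Inheritance of weakly closed subgroups. -/

namespace Cfsg.Agent.Even.WeaklyClosed

open Cfsg Cfsg.Agent.Even.Large
open scoped commutatorElement Pointwise

variable {H : Type*} [Group H] [Finite H] {p : ℕ} [Fact p.Prime] {Q : Subgroup H}

theorem inherit_facts (hQ : IsPGroup p Q) (hw : IsWeaklyClosedSubgroup p Q) (K : Subgroup H) (hQK : Q ≤ K)
    (N : Subgroup H) [N.Normal] :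
    IsWeaklyClosedSubgroup p (Q.subgroupOf K) ∧
      (∀ g : H, cnj Q g ≤ K → ∃ k ∈ K, cnj Q g = cnj Q k) ∧
      IsParabolic p ((Subgroup.normalizer (Q : Set H)).subgroupOf K) ∧
      (N ⊓ Subgroup.normalizer (Q : Set H)) ⊔ (pResidual p N).map N.subtype = N ∧
      IsWeaklyClosedSubgroup p (Q.map (QuotientGroup.mk' N)) := by
  have hb : ∀ g : H, ⁅Q, cnj Q g⁆ ≤ Q ⊓ cnj Q g → cnj Q g = Q := to_comm hQ hw
  obtain ⟨S, hS⟩ := (hQ.of_equiv (Subgroup.subgroupOfEquivOfLe hQK).symm).exists_le_sylow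
  have hQS : Q ≤ (S : Subgroup K).map K.subtype := fun q hq => ⟨⟨q, hQK hq⟩, hS hq, rfl⟩
  refine ⟨⟨S, hS, fun k hk => ?_⟩, fun g hg => exists_conj_in hQ hw hQK g hg,
    ⟨S, fun s hs => le_normalizer_of_le hb (S.2.map K.subtype) hQS ⟨s, hs, rfl⟩⟩, ?_, ?_⟩
  · have h1 : cnj Q (k : H) ≤ (S : Subgroup K).map K.subtype := by
      rintro _ ⟨q, hq, rfl⟩
      exact ⟨k * ⟨q, hQK hq⟩ * k⁻¹, hk ⟨⟨q, hQK hq⟩, hq, rfl⟩, rfl⟩
    have e := wc_eq hw (S.2.map K.subtype) hQS _ h1
    ext y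
    constructor
    · rintro ⟨q, hq, rfl⟩
      show (k : H) * q * (k : H)⁻¹ ∈ Q
      rw [← e]; exact cnj_mem hq
    · intro hy
      have hy' : (y : H) ∈ cnj Q (k : H) := by rw [e]; exact hy
      obtain ⟨q, hq, he⟩ := hy'
      exact ⟨⟨q, hQK hq⟩, hq, Subtype.ext he⟩
  · obtain ⟨T, hT⟩ := hQ.exists_le_sylow
    refine le_antisymm (sup_le inf_le_left (Subgroup.map_subtype_le _)) fun n hn => ?_
    have hTN : IsPGroup p ((T : Subgroup H).subgroupOf N) := T.2.comap_of_injective N.subtype N.subtype_injective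
    obtain ⟨R, hR⟩ := hTN.exists_le_sylow
    have hRT : (R : Subgroup N).map N.subtype ≤ (T : Subgroup H) := by
      obtain ⟨T', hT'⟩ := (R.2.map N.subtype).exists_le_sylow
      obtain ⟨g, hg⟩ := MulAction.exists_smul_eq H T' T
      have h1 : ((R : Subgroup N).map N.subtype).map (MulAut.conj g).toMonoidHom ≤ ((T : Subgroup H).subgroupOf N).map N.subtype := by
        rintro _ ⟨s, hs, rfl⟩
        refine ⟨⟨_, ‹N.Normal›.conj_mem s (Subgroup.map_subtype_le _ hs) g⟩, ?_, rfl⟩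
        show g * s * g⁻¹ ∈ (T : Subgroup H)
        rw [← hg, Sylow.coe_subgroup_smul]
        exact ⟨s, hT' hs, rfl⟩
      have hc := Subgroup.card_le_of_le h1
      rw [Subgroup.card_map_of_injective (MulAut.conj g).injective] at hc
      have e := Subgroup.eq_of_le_of_card_ge (Subgroup.map_mono (f := N.subtype) hR) hc
      rw [← e]
      exact Subgroup.map_le_iff_le_comap.2 le_rfl
    have h2 : (⊤ : Subgroup N).map N.subtype ≤ (N ⊓ Subgroup.normalizer (Q : Set H)) ⊔ (pResidual p N).map N.subtype := by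
      rw [← Cfsg.Agent.Transfer.pResidual_sup_sylow R, Subgroup.map_sup]
      refine sup_le le_sup_right (le_trans ?_ le_sup_left)
      exact le_inf (Subgroup.map_subtype_le _) (hRT.trans (le_normalizer_of_le hb T.2 hT))
    exact h2 ⟨⟨n, hn⟩, trivial, rfl⟩
  · obtain ⟨T, hT⟩ := hQ.exists_le_sylow
    refine ⟨T.mapSurjective (QuotientGroup.mk'_surjective N), Subgroup.map_mono hT, fun z hz => ?_⟩
    obtain ⟨g, rfl⟩ := QuotientGroup.mk'_surjective N z
    have hgX : cnj Q g ≤ ((T : Subgroup H).map (QuotientGroup.mk' N)).comap (QuotientGroup.mk' N) := by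
      rintro _ ⟨q, hq, rfl⟩
      exact hz ⟨_, ⟨q, hq, rfl⟩, by simp⟩
    obtain ⟨x, hx, e⟩ := exists_conj_in hQ hw (hT.trans (Subgroup.le_comap_map _ _)) g hgX
    obtain ⟨t, ht, het⟩ := hx
    have e1 : ∀ a : H, (Q.map (QuotientGroup.mk' N)).map (MulAut.conj (QuotientGroup.mk' N a)).toMonoidHom
        = (cnj Q a).map (QuotientGroup.mk' N) := by
      intro a
      rw [cnj, Subgroup.map_map, Subgroup.map_map]
      congr 1
    rw [e1 g, e, ← e1 x, ← het, e1 t, cnj_eq_of_mem (le_normalizer_of_le hb T.2 hT ht)]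

end Cfsg.Agent.Even.WeaklyClosed
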